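import Mathlib
import Cfsg.Agent.Lib.He.Enum

/-! Stabiliser chains, suborbits and normal closure certificates for the action on 2058 points (generated). -/

set_option maxRecDepth 100000
set_option Elab.async false

namespace CfsgLib.He

open CfsgLib.CosetEnum

def top : List (List ℕ) := [[0], [2], [4], [6], [8], [10], [12]]
def hs : List (List ℕ) := [[0], [4], [6], [8], [10], [0, 2, 0, 2], [2, 4, 6, 8, 2, 4, 6, 8, 2, 4, 6, 8, 2, 4, 6, 8, 2, 4, 6, 8, 2, 4, 6, 8, 2, 4, 6, 8]]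
def chain : List Lev := [⟨0, [[0], [2], [4], [6], [8], [10], [12]], [1, 6, 2, 3, 2, 4, 5, 3, 1, 2, 6, 5, 3, 6, 4, 2, 3, 5, 1, 2, 3, 6, 1, 5], 2058⟩,
  ⟨2, [[4], [6], [8], [10], [2, 4, 6, 12, 7, 5, 3]], [0, 1, 0, 2, 3, 1, 0, 3, 2, 1, 0, 3, 4, 1, 2, 3, 0, 1, 0, 3, 2, 1, 4, 1, 2], 1360⟩,
  ⟨15, [[6], [8], [10], [4, 2, 6, 4, 6, 4, 12, 6, 4, 7, 13, 5, 7, 5, 7, 3, 5]], [0, 1, 2, 0, 1, 2, 3, 0, 1, 2, 0, 3, 0, 1], 360⟩,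
  ⟨50, [[0], [2, 0, 2, 8]], [0, 1], 4⟩]
theorem chain_ok : chainB M0_nets (imOf [0, 1, 2, 3, 4, 5, 6]) 12 top chain [] = true := by decide +kernel
def subs : List Sub := [⟨[2], 2, [1, 2, 1, 3, 4, 2, 1, 4, 3, 2, 1, 4, 2, 1, 6, 2, 4, 2, 1, 3, 2, 1, 4, 3, 2, 1, 6, 0], [0, 2, 3, 2, 4, 5, 3, 0, 2, 5, 4, 3, 0, 2, 4, 5, 3, 0, 2, 5, 4, 0, 3, 2, 5, 0, 3, 2, 0, 3, 5, 2, 4, 3, 2, 3, 5]⟩,
  ⟨[12], 1, [2, 1, 3, 4, 2, 1, 3, 2, 6, 0, 4, 2, 1, 3, 2, 3, 1, 4, 2, 6], [0, 3, 2, 4, 5, 3, 0, 4, 3, 7, 1, 5, 0, 3, 2, 4, 0, 3, 5, 2, 0, 4, 3, 2, 7, 5, 0, 3]⟩,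
  ⟨[12, 6, 4, 6, 4, 2], 70, [3, 4, 2, 1, 4, 2, 1, 4, 2, 3, 6, 0, 4, 2, 3, 1, 2, 1], [0, 1, 2, 4, 3, 2, 4, 5, 3, 2, 5, 4, 0, 1, 2, 5, 3, 2, 5, 4, 3, 0, 2, 3, 2, 3, 5]⟩,
  ⟨[12, 6, 2, 4, 6, 12], 58, [0, 1, 3, 2, 1, 3, 4, 2, 1, 4, 3, 2, 1, 2, 6, 4], [0, 4, 5, 3, 2, 5, 3, 0, 4, 5, 2, 3, 2, 5, 4, 3, 4, 5, 2, 3, 0, 5, 4, 3, 2]⟩]
theorem subs_ok : maxB M0_nets (imOf [0, 1, 2, 3, 4, 5, 6]) top hs 0 (Nat.sub (Nat.shiftLeft 1 2058) 1) subs = true := by decide +kernel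
theorem ncl_ok : nclB M0_nets (imOf [0, 1, 2, 3, 4, 5, 6]) top (chain.map Lev.p) [6, 4, 10, 6, 12, 10] 7 [⟨[4, 0, 2, 6, 4, 6, 4, 8, 2, 0], 21, 2⟩, ⟨[4, 4, 2, 4, 10, 6, 6, 10, 12, 12], 5, 2⟩, ⟨[], 5, 2⟩, ⟨[10], 5, 2⟩, ⟨[], 7, 2⟩, ⟨[6, 4, 10, 10, 10], 5, 2⟩, ⟨[2, 2, 6, 4, 10], 5, 2⟩] = true := by decide +kernel
theorem orb_ok : orbitB M0_nets top [1, 6, 2, 3, 2, 4, 5, 3, 1, 2, 6, 5, 3, 6, 4, 2, 3, 5, 1, 2, 3, 6, 1, 5] 0 12 2058 = true := by decide +kernel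
theorem orb_full : Nat.beq (bfs M0_nets top [1, 6, 2, 3, 2, 4, 5, 3, 1, 2, 6, 5, 3, 6, 4, 2, 3, 5, 1, 2, 3, 6, 1, 5] (Nat.shiftLeft 1 0)) (Nat.sub (Nat.shiftLeft 1 2058) 1) = true := by decide +kernel
theorem fix_ok : allL (fun w => fixesP M0_nets w 0) hs = true := by decide +kernel
theorem sub0_ok : orbitB M0_nets hs [1, 2, 1, 3, 4, 2, 1, 4, 3, 2, 1, 4, 2, 1, 6, 2, 4, 2, 1, 3, 2, 1, 4, 3, 2, 1, 6, 0] 2 12 1360 = true := by decide +kernel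
theorem mov0_ok : movesP M0_nets [2] 2 0 = true := by decide +kernel
theorem sub1_ok : orbitB M0_nets hs [2, 1, 3, 4, 2, 1, 3, 2, 6, 0, 4, 2, 1, 3, 2, 3, 1, 4, 2, 6] 1 12 425 = true := by decide +kernel
theorem mov1_ok : movesP M0_nets [12] 1 0 = true := by decide +kernel
theorem sub2_ok : orbitB M0_nets hs [3, 4, 2, 1, 4, 2, 1, 4, 2, 3, 6, 0, 4, 2, 3, 1, 2, 1] 70 12 136 = true := by decide +kernel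
theorem mov2_ok : movesP M0_nets [12, 6, 4, 6, 4, 2] 70 0 = true := by decide +kernel
theorem sub3_ok : orbitB M0_nets hs [0, 1, 3, 2, 1, 3, 4, 2, 1, 4, 3, 2, 1, 2, 6, 4] 58 12 136 = true := by decide +kernel
theorem mov3_ok : movesP M0_nets [12, 6, 2, 4, 6, 12] 58 0 = true := by decide +kernel
theorem sub_ne : Nat.beq (bfs M0_nets hs [3, 4, 2, 1, 4, 2, 1, 4, 2, 3, 6, 0, 4, 2, 3, 1, 2, 1] (Nat.shiftLeft 1 70)) (bfs M0_nets hs [0, 1, 3, 2, 1, 3, 4, 2, 1, 4, 3, 2, 1, 2, 6, 4] (Nat.shiftLeft 1 58)) = false := by decide +kernel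
def hints1 : List ℕ := [1025, 2049, 3073, 4097, 5121, 6145, 9217, 10241, 11265, 12289, 13313, 17409, 18433, 19457, 20481, 25601, 26625, 27649, 33793, 34817, 41985, 50177, 51201, 52225, 53249]
def hints2 : List ℕ := [25600, 1, 1025, 2049, 3073, 4097, 5121, 0, 25600, 6145, 7169, 8193, 9217, 10241, 1024, 6144, 25600, 11265, 12289, 13313, 14337, 2048, 7168, 11264, 25600, 15361, 16385, 17409, 3072, 8192, 12288, 15360, 25600, 18433, 19457, 4096, 9216, 13312, 16384, 18432, 25600, 20481, 5120, 10240, 14336, 17408, 19456, 20480, 25600, 21505, 22529, 23553, 24577]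

end CfsgLib.He
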